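import Mathlib.AlgebraicGeometry.Morphisms.Separated
import Mathlib.AlgebraicGeometry.PullbackCarrier
import Mathlib.AlgebraicGeometry.Morphisms.ClosedImmersion
import Mathlib.AlgebraicGeometry.Morphisms.Immersion

/-!
# The equalizer of two maps that stabilise every open is closed
-/

universe u

open CategoryTheory CategoryTheory.Limits AlgebraicGeometry

namespace Groth.Agent.FixedLocus

/-- If `pr₁ ∘ Φ` specialises to `pr₂ ∘ Φ` pointwise, then the preimage of the diagonal is closed. -/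
theorem isClosedImmersion_pullback_diagonal {S X P : Scheme.{u}} (h : X ⟶ S)
    (Φ : P ⟶ pullback h h)
    (hΦ : ∀ p : P, ∀ U : X.Opens, pullback.snd h h (Φ p) ∈ U → pullback.fst h h (Φ p) ∈ U) :
    IsClosedImmersion (pullback.snd (pullback.diagonal h) Φ) := by
  haveI : IsImmersion (pullback.snd (pullback.diagonal h) Φ) :=
    MorphismProperty.pullback_snd _ _ (inferInstance : IsImmersion (pullback.diagonal h))
  refine IsClosedImmersion.of_isPreimmersion _ ?_
  rw [Scheme.Pullback.range_snd, ← isOpen_compl_iff, isOpen_iff_forall_mem_open]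
  intro p hp
  obtain ⟨_, ⟨U, hU, rfl⟩, hpU, -⟩ := X.isBasis_affineOpens.exists_subset_of_mem_open
    (Set.mem_univ (pullback.snd h h (Φ p))) isOpen_univ
  haveI : IsAffine (U : Scheme.{u}) := hU
  let j := pullback.map ((Scheme.Opens.ι U) ≫ h) ((Scheme.Opens.ι U) ≫ h) h h (Scheme.Opens.ι U) (Scheme.Opens.ι U) (𝟙 _) (by simp) (by simp)
  haveI : IsOpenImmersion j := inferInstanceAs (IsOpenImmersion (pullback.map _ _ _ _ _ _ _ _ _))
  have hC : IsClosed (Set.range (pullback.diagonal ((Scheme.Opens.ι U) ≫ h))) :=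
    (IsClosedImmersion.base_closed (f := pullback.diagonal ((Scheme.Opens.ι U) ≫ h))).isClosed_range
  have hmem : Φ p ∈ Set.range j := by
    rw [Scheme.Pullback.range_map]
    exact ⟨by rw [Set.mem_preimage, Scheme.Opens.range_ι]; exact hΦ p U hpU,
      by rw [Set.mem_preimage, Scheme.Opens.range_ι]; exact hpU⟩
  have hd : pullback.diagonal ((Scheme.Opens.ι U) ≫ h) ≫ j = (Scheme.Opens.ι U) ≫ pullback.diagonal h := by
    apply pullback.hom_ext
    · simp only [j, Category.assoc, pullback.map, pullback.lift_fst, pullback.diagonal_fst, pullback.diagonal_fst_assoc, Category.comp_id]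
    · simp only [j, Category.assoc, pullback.map, pullback.lift_snd, pullback.diagonal_snd, pullback.diagonal_snd_assoc, Category.comp_id]
  refine ⟨Φ ⁻¹' (j '' (Set.range (pullback.diagonal ((Scheme.Opens.ι U) ≫ h)))ᶜ), ?_,
    (j.isOpenEmbedding.isOpenMap _ hC.isOpen_compl).preimage Φ.continuous, ?_⟩
  · rintro q ⟨z, hz, hzq⟩ ⟨x, hx⟩
    have hxU : x ∈ U := by
      have hj1 : j ≫ pullback.fst h h = pullback.fst (Scheme.Opens.ι U ≫ h) (Scheme.Opens.ι U ≫ h) ≫ Scheme.Opens.ι U :=
        pullback.lift_fst _ _ _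
      have h1 : pullback.fst h h (j z) = Scheme.Opens.ι U (pullback.fst (Scheme.Opens.ι U ≫ h) (Scheme.Opens.ι U ≫ h) z) := by
        rw [← Scheme.Hom.comp_apply, ← Scheme.Hom.comp_apply, hj1]
      rw [hzq, ← hx, ← Scheme.Hom.comp_apply, pullback.diagonal_fst] at h1
      exact (show x = _ from h1) ▸ (pullback.fst ((Scheme.Opens.ι U) ≫ h) ((Scheme.Opens.ι U) ≫ h) z).2
    refine hz ⟨⟨x, hxU⟩, j.isOpenEmbedding.injective ?_⟩
    rw [hzq, ← Scheme.Hom.comp_apply, hd, Scheme.Hom.comp_apply, ← hx]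
    rfl
  · obtain ⟨z, hz⟩ := hmem
    refine ⟨z, ?_, hz⟩
    rintro ⟨x, rfl⟩
    exact hp ⟨(Scheme.Opens.ι U) x, by rw [← hz, ← Scheme.Hom.comp_apply, ← Scheme.Hom.comp_apply, hd]⟩

end Groth.Agent.FixedLocus
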